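import Groth.Agent.H30.KInjCls
import Groth.Agent.H16.RlimInjC
import Groth.Agent.H45.QC.FreeOnHom

/-!
# Classes of cycle sections of a K-injective complex of modules on a ringed site (helper16: universe-generalized copy of helper45 H45/RlimMod)

For a complex `I` of `O`-modules, an object `Y` and a section `x ∈ I^q(Y)` killed by the differential, the class
`clsO I q Y x ∈ Hom_{D(O)}(j_{Y!}O_Y[0], I[q])`.  For `I` K-injective it vanishes iff `x` is a boundary.
(module version of `Groth.Agent.H30.HDSheafify.c`)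
-/

set_option autoImplicit false
universe w u
open CategoryTheory CategoryTheory.Limits Opposite CochainComplex HomComplex DerivedCategory

namespace Groth.Agent.H16.RlimModW

open Groth.Agent.H30
open Groth.Agent.H31 (freeOnHomEquiv freeOnHomEquiv_naturality freeOnHomEquiv_symm_naturality)

variable {C : Type u} [SmallCategory C] {J : GrothendieckTopology C} (O : Sheaf J CommRingCat.{u})
  [HasDerivedCategory.{w} (ModSite.Mod O)]

/-- the object `j_{Y!}O_Y[0]` of the derived category of `O`-modules. -/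
noncomputable abbrev ZO (Y : C) : DerivedCategory (ModSite.Mod O) :=
  Q.obj ((CochainComplex.singleFunctor (ModSite.Mod O) 0).obj (ModSite.freeOn O Y))

/-- `H^m(Y, K)` for an object `K` of `D(O)`. -/
abbrev HDUO (K : DerivedCategory (ModSite.Mod O)) (m : ℤ) (Y : C) : Type w :=
  ZO O Y ⟶ K⟦m⟧

variable {O}

section
variable (I : CochainComplex (ModSite.Mod O) ℤ) (q : ℤ) (Y : C)

/-- the morphism `j_{Y!}O_Y ⟶ I^q` attached to a section. -/
noncomputable def homOf (x : (I.X q).val.obj (op Y)) : ModSite.freeOn O Y ⟶ I.X q :=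
  (freeOnHomEquiv O Y (I.X q)).symm x

lemma homOf_comp (q' : ℤ) (x : (I.X q).val.obj (op Y)) :
    homOf I q Y x ≫ I.d q q' = homOf I q' Y ((I.d q q').val.app (op Y) x) :=
  (freeOnHomEquiv_symm_naturality O Y x (I.d q q')).symm

lemma homOf_zero : homOf I q Y 0 = 0 :=
  (Groth.Agent.H45.QC.freeOnHomAddEquiv O Y (I.X q)).symm.map_zero

lemma homOf_comp_d (q' : ℤ) (x : (I.X q).val.obj (op Y))
    (hx : (I.d q q').val.app (op Y) x = 0) : homOf I q Y x ≫ I.d q q' = 0 := by
  rw [homOf_comp, hx, homOf_zero]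

lemma freeOnHomEquiv_homOf (x : (I.X q).val.obj (op Y)) :
    freeOnHomEquiv O Y (I.X q) (homOf I q Y x) = x :=
  Equiv.apply_symm_apply _ _

/-- the class of a cycle section. -/
noncomputable def clsO (q' : ℤ) (hq' : q + 1 = q') (x : (I.X q).val.obj (op Y))
    (hx : (I.d q q').val.app (op Y) x = 0) : HDUO O (Q.obj I) q Y :=
  KInjCls.cls q' hq' (homOf I q Y x) (homOf_comp_d I q Y q' x hx)

lemma clsO_eq_zero_iff [I.IsKInjective] (q' : ℤ) (hq' : q + 1 = q') (x : (I.X q).val.obj (op Y))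
    (hx : (I.d q q').val.app (op Y) x = 0) (q'' : ℤ) (hq'' : q'' + 1 = q) :
    clsO I q Y q' hq' x hx = 0 ↔
      ∃ y : (I.X q'').val.obj (op Y), (I.d q'' q).val.app (op Y) y = x := by
  dsimp only [clsO]
  rw [KInjCls.cls_eq_zero_iff q' hq' _ _ q'' hq'']
  constructor
  · rintro ⟨g, hg⟩
    refine ⟨freeOnHomEquiv O Y _ g, ?_⟩
    rw [← freeOnHomEquiv_naturality, hg, freeOnHomEquiv_homOf]
  · rintro ⟨y, hy⟩
    refine ⟨homOf I q'' Y y, ?_⟩
    rw [homOf_comp, hy]

end

lemma clsO_postcomp {I I' : CochainComplex (ModSite.Mod O) ℤ} (g : I ⟶ I') (q : ℤ) (Y : C)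
    (q' : ℤ) (hq' : q + 1 = q')
    (x : (I.X q).val.obj (op Y)) (hx : (I.d q q').val.app (op Y) x = 0)
    (hx' : (I'.d q q').val.app (op Y) ((g.f q).val.app (op Y) x) = 0) :
    clsO I' q Y q' hq' ((g.f q).val.app (op Y) x) hx' =
      clsO I q Y q' hq' x hx ≫ (Q.map g)⟦q⟧' := by
  dsimp only [clsO]
  have h1 : homOf I' q Y ((g.f q).val.app (op Y) x) = homOf I q Y x ≫ g.f q :=
    freeOnHomEquiv_symm_naturality O Y x (g.f q)
  refine (KInjCls.cls_congr _ hq' h1 _ (by
    rw [Category.assoc, g.comm, ← Category.assoc, homOf_comp_d I q Y q' x hx,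
      zero_comp])).trans ?_
  exact Groth.Agent.H16.RlimInjC.cls_postcomp _ hq' (homOf I q Y x)
    (homOf_comp_d I q Y q' x hx) g

/-- a cycle section is sent to a cycle section by a chain map. -/
lemma map_cycle {I I' : CochainComplex (ModSite.Mod O) ℤ} (g : I ⟶ I') (q q' : ℤ) (Y : C)
    (x : (I.X q).val.obj (op Y)) (hx : (I.d q q').val.app (op Y) x = 0) :
    (I'.d q q').val.app (op Y) ((g.f q).val.app (op Y) x) = 0 := by
  have h1 : (g.f q ≫ I'.d q q').val.app (op Y) x = (I.d q q' ≫ g.f q').val.app (op Y) x := by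
    rw [g.comm]
  have h2 : (g.f q').val.app (op Y) ((I.d q q').val.app (op Y) x) = 0 := by
    rw [hx, map_zero]
  exact h1.trans h2

end Groth.Agent.H16.RlimModW
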