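import Groth.Agent.H16.RlimModW.ZeroBasis
import Groth.Agent.H16.RlimModW.TruncO
import Groth.Agent.H16.RlimMilnor

/-!
# The limit of a tower of modules with acyclic terms and surjective transitions is its derived limit (helper16)

Ringed-site version, for an arbitrary `HasDerivedCategory` instance on the category of modules.
-/

set_option autoImplicit false
universe w u
open CategoryTheory CategoryTheory.Limits Opposite DerivedCategory Pretriangulated ZeroObject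

namespace Groth.Agent.H16.RlimModW

open Groth.Agent.H16
open Groth.Agent.H31 (freeOnHomEquiv freeOnHomEquiv_naturality freeOnHomEquiv_symm_naturality)

variable {C : Type u} [SmallCategory C] {J : GrothendieckTopology C} (O : Sheaf J CommRingCat.{u})
  [HasDerivedCategory.{w} (ModSite.Mod O)]

/-- `Hom(j_{Y!}O_Y, G[0][m]) = 0` for `m < 0`. -/
lemma subsingleton_HDUO_single_neg (G : ModSite.Mod O) (m : ℤ) (hm : m < 0) (Y : C) :
    Subsingleton (HDUO O ((singleFunctor (ModSite.Mod O) 0).obj G) m Y) := by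
  constructor
  intro x y
  have h1 : TStructure.t.IsGE (((singleFunctor (ModSite.Mod O) 0).obj G)⟦m⟧) (0 - m) :=
    TStructure.t.isGE_shift _ 0 m (0 - m) (by omega)
  have h2 : TStructure.t.IsLE (ZO O Y) 0 :=
    inferInstanceAs (TStructure.t.IsLE ((singleFunctor (ModSite.Mod O) 0).obj (ModSite.freeOn O Y)) 0)
  rw [TStructure.t.zero_of_isLE_of_isGE x 0 (0 - m) (by omega) h2 h1,
    TStructure.t.zero_of_isLE_of_isGE y 0 (0 - m) (by omega) h2 h1]

/-- `Hom(j_{Y!}O_Y, G[0][k+1]) = 0` when `H^{k+1}(Y, G) = 0`. -/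
lemma subsingleton_HDUO_single_pos (G : ModSite.Mod O) (k : ℕ) (Y : C)
    (h : Subsingleton (ModSite.HU O G (k + 1) Y)) :
    Subsingleton (HDUO O ((singleFunctor (ModSite.Mod O) 0).obj G) ((k + 1 : ℕ) : ℤ) Y) :=
  subsingleton_HDUO_of_HU O Y G _ 0 ((k + 1 : ℕ) : ℤ) (k + 1) (by omega) (Iso.refl _) h

/-- `Hom(j_{Y!}O_Y, G[0][m]) = 0` for `m ≠ 0` when `G` is acyclic on `Y`. -/
lemma subsingleton_HDUO_single (G : ModSite.Mod O) (Y : C)
    (h : ∀ k : ℕ, Subsingleton (ModSite.HU O G (k + 1) Y)) (m : ℤ) (hm : m ≠ 0) :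
    Subsingleton (HDUO O ((singleFunctor (ModSite.Mod O) 0).obj G) m Y) := by
  rcases lt_or_gt_of_ne hm with h0 | h0
  · exact subsingleton_HDUO_single_neg O G m h0 Y
  · obtain ⟨k, rfl⟩ : ∃ k : ℕ, m = ((k + 1 : ℕ) : ℤ) := ⟨(m - 1).toNat, by push_cast; omega⟩
    exact subsingleton_HDUO_single_pos O G k Y (h k)

section Phi

variable (Y : C)

/-- the identification `j_{Y!}O_Y[0] ≅ single`. -/
noncomputable def ιZ : ZO O Y ≅ (singleFunctor (ModSite.Mod O) 0).obj (ModSite.freeOn O Y) :=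
  ((singleFunctorIsoCompQ (ModSite.Mod O) 0).app (ModSite.freeOn O Y)).symm

/-- the map `Hom(j_{Y!}O_Y, G) → Hom_{D(O)}(j_{Y!}O_Y[0], G[0][0])`. -/
noncomputable def Φ (G : ModSite.Mod O) (x : ModSite.freeOn O Y ⟶ G) :
    HDUO O ((singleFunctor (ModSite.Mod O) 0).obj G) 0 Y :=
  (ιZ O Y).hom ≫ (singleFunctor (ModSite.Mod O) 0).map x ≫
    (shiftFunctorZero (DerivedCategory (ModSite.Mod O)) ℤ).inv.app
      ((singleFunctor (ModSite.Mod O) 0).obj G)

lemma Φ_def (G : ModSite.Mod O) (x : ModSite.freeOn O Y ⟶ G) : Φ O Y G x =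
    (ιZ O Y).hom ≫ (singleFunctor (ModSite.Mod O) 0).map x ≫
      (shiftFunctorZero (DerivedCategory (ModSite.Mod O)) ℤ).inv.app
      ((singleFunctor (ModSite.Mod O) 0).obj G) := rfl

lemma Φ_comp {G G' : ModSite.Mod O} (x : ModSite.freeOn O Y ⟶ G) (f : G ⟶ G') :
    Φ O Y G' (x ≫ f) = Φ O Y G x ≫ ((singleFunctor (ModSite.Mod O) 0).map f)⟦(0 : ℤ)⟧' := by
  rw [Φ_def, Φ_def, Functor.map_comp, Category.assoc, Category.assoc, Category.assoc]
  congr 2
  exact ((shiftFunctorZero (DerivedCategory (ModSite.Mod O)) ℤ).inv.naturality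
    ((singleFunctor (ModSite.Mod O) 0).map f))

lemma Φ_injective (G : ModSite.Mod O) : Function.Injective (Φ O Y G) := by
  intro x y hxy
  rw [Φ_def, Φ_def] at hxy
  have h1 := (cancel_mono _).1 ((cancel_epi _).1 hxy)
  exact (singleFunctor (ModSite.Mod O) 0).map_injective h1

lemma Φ_surjective (G : ModSite.Mod O) : Function.Surjective (Φ O Y G) := by
  intro z
  obtain ⟨x, hx⟩ := (singleFunctor (ModSite.Mod O) 0).map_surjective
    ((ιZ O Y).inv ≫ z ≫ (shiftFunctorZero (DerivedCategory (ModSite.Mod O)) ℤ).hom.app _)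
  refine ⟨x, ?_⟩
  rw [Φ_def, hx, Category.assoc, Category.assoc, Iso.hom_inv_id_app, Iso.hom_inv_id_assoc]
  exact Category.comp_id z

lemma Φ_zero (G : ModSite.Mod O) : Φ O Y G 0 = 0 := by
  rw [Φ_def, Functor.map_zero, zero_comp]
  exact comp_zero

end Phi

section tri

universe v' u'

variable {T : Type u'} [Category.{v'} T] [Preadditive T] [HasZeroObject T] [HasShift T ℤ]
  [∀ n : ℤ, (shiftFunctor T n).Additive] [Pretriangulated T]

/-- `Hom(Z, C[m]) = 0` for the cone `C` of a morphism inducing an injection on `Hom(Z, -[m+1])` and a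
surjection on `Hom(Z, -[m])`. -/
lemma subsingleton_hom_obj₃ (Tr : Triangle T) (hT : Tr ∈ distTriang T) (Z : T) (m m' : ℤ)
    (hm : m + 1 = m')
    (hinj : Function.Injective (fun x : Z ⟶ Tr.obj₁⟦m'⟧ => x ≫ Tr.mor₁⟦m'⟧'))
    (hsurj : Function.Surjective (fun x : Z ⟶ Tr.obj₁⟦m⟧ => x ≫ Tr.mor₁⟦m⟧')) :
    Subsingleton (Z ⟶ Tr.obj₃⟦m⟧) := by
  suffices h : ∀ x : Z ⟶ Tr.obj₃⟦m⟧, x = 0 by
    constructor
    intro x y
    rw [h x, h y]
  intro x
  let G := preadditiveCoyoneda.obj (op Z)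
  let d : Z ⟶ Tr.obj₁⟦m'⟧ := (G.homologySequenceδ Tr m m' hm).hom x
  have hd : d ≫ Tr.mor₁⟦m'⟧' = 0 :=
    ConcreteCategory.congr_hom (G.homologySequenceδ_comp Tr hT m m' hm) x
  have hd0 : d = 0 := by
    apply hinj
    change d ≫ Tr.mor₁⟦m'⟧' = 0 ≫ Tr.mor₁⟦m'⟧'
    rw [hd, zero_comp]
  have hex := G.homologySequence_exact₃ _ hT m m' hm
  rw [ShortComplex.ab_exact_iff] at hex
  obtain ⟨y, hy⟩ := hex x hd0
  let y' : Z ⟶ Tr.obj₂⟦m⟧ := y
  have hy' : y' ≫ Tr.mor₂⟦m⟧' = x := hy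
  obtain ⟨z, hz⟩ := hsurj y'
  have hz' : z ≫ Tr.mor₁⟦m⟧' = y' := hz
  rw [← hy', ← hz', Category.assoc, ← Functor.map_comp, comp_distTriang_mor_zero₁₂ _ hT,
    Functor.map_zero, comp_zero]

end tri

section main

variable (F : ℕ → ModSite.Mod O) (t : ∀ n, F (n + 1) ⟶ F n)

/-- the objects `F_n[0]`. -/
noncomputable abbrev Kn (n : ℕ) : DerivedCategory (ModSite.Mod O) :=
  (singleFunctor (ModSite.Mod O) 0).obj (F n)

/-- the transition maps. -/
noncomputable abbrev tn (n : ℕ) : Kn O F (n + 1) ⟶ Kn O F n :=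
  (singleFunctor (ModSite.Mod O) 0).map (t n)

/-- the limit module. -/
noncomputable abbrev Lm : ModSite.Mod O := limit (Functor.ofOpSequence t)

/-- the maps induced by the projections. -/
noncomputable abbrev bn (n : ℕ) : (singleFunctor (ModSite.Mod O) 0).obj (Lm O F t) ⟶ Kn O F n :=
  (singleFunctor (ModSite.Mod O) 0).map (limit.π (Functor.ofOpSequence t) (op n))

lemma bn_succ (n : ℕ) : bn O F t (n + 1) ≫ tn O F t n = bn O F t n := by
  dsimp only [bn, tn]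
  rw [← Functor.map_comp]
  congr 1
  have h := limit.w (Functor.ofOpSequence t) (homOfLE (Nat.le_add_right n 1)).op
  rw [Functor.ofOpSequence_map_homOfLE_succ] at h
  exact h

variable {F t} in
/-- surjectivity of the transition maps on `Hom(j_{Y!}O_Y[0], F_n[0][0])`. -/
lemma tn_surjective (Y : C) (n : ℕ) (h : Function.Surjective ((t n).val.app (op Y))) :
    Function.Surjective (fun x : HDUO O (Kn O F (n + 1)) 0 Y => x ≫ (tn O F t n)⟦(0 : ℤ)⟧') := by
  intro x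
  obtain ⟨x₀, rfl⟩ := Φ_surjective O Y (F n) x
  obtain ⟨s', hs'⟩ := h (freeOnHomEquiv O Y (F n) x₀)
  have h1 : (freeOnHomEquiv O Y (F (n + 1))).symm s' ≫ t n = x₀ := by
    rw [← freeOnHomEquiv_symm_naturality, hs', Equiv.symm_apply_apply]
  refine ⟨Φ O Y (F (n + 1)) ((freeOnHomEquiv O Y (F (n + 1))).symm s'), ?_⟩
  change Φ O Y (F (n + 1)) _ ≫ ((singleFunctor (ModSite.Mod O) 0).map (t n))⟦(0 : ℤ)⟧' = _
  rw [← Φ_comp, h1]

/-- **The limit of an acyclic tower of modules with (eventually) surjective transition maps on a covering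
class is its derived limit, through the projections.** -/
theorem isRlimVia_limit [HasProduct (Kn O F)] (B : Set C)
    (hB : ∀ U : C, ∃ (ι : Type u) (Y : ι → C) (f : ∀ i, Y i ⟶ U),
      Sieve.ofArrows Y f ∈ J U ∧ ∀ i, Y i ∈ B)
    (h1 : ∀ Y ∈ B, ∀ (n k : ℕ), Subsingleton (ModSite.HU O (F n) (k + 1) Y))
    (h2 : ∀ Y ∈ B, ∀ n : ℕ, 1 ≤ n → Function.Surjective ((t n).val.app (op Y)))
    (h3 : ∀ Y ∈ B, ∀ k : ℕ, Subsingleton (ModSite.HU O (Lm O F t) (k + 1) Y)) :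
    CohCx.IsRlimVia (Kn O F) (tn O F t) ((singleFunctor (ModSite.Mod O) 0).obj (Lm O F t))
      (bn O F t) := by
  let K := Kn O F
  let tt := tn O F t
  let L0 : DerivedCategory (ModSite.Mod O) := (singleFunctor (ModSite.Mod O) 0).obj (Lm O F t)
  let b : ∀ n, L0 ⟶ K n := bn O F t
  let g : ∏ᶜ K ⟶ ∏ᶜ K := Pi.lift fun n => Pi.π K n - Pi.π K (n + 1) ≫ tt n
  obtain ⟨R, a', c, hc⟩ := distinguished_cocone_triangle₁ g
  let a : ∀ n, R ⟶ K n := fun n => a' ≫ Pi.π K n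
  have ha : Pi.lift a = a' := by
    apply Pi.hom_ext
    intro n
    rw [Pi.lift_π]
  have hR : CohCx.IsRlimVia K tt R a := ⟨c, by rw [ha]; exact hc⟩
  have hbg : Pi.lift b ≫ g = 0 := by
    apply Pi.hom_ext
    intro n
    rw [Category.assoc, Pi.lift_π, zero_comp, Preadditive.comp_sub, ← Category.assoc, Pi.lift_π,
      Pi.lift_π, bn_succ, sub_self]
  obtain ⟨ψ, hψ'⟩ : ∃ ψ : L0 ⟶ R, Pi.lift b = ψ ≫ a' :=
    Triangle.coyoneda_exact₂ _ hc (Pi.lift b) hbg
  have hψa : ∀ n, ψ ≫ a n = b n := by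
    intro n
    change ψ ≫ a' ≫ Pi.π K n = b n
    rw [← Category.assoc, ← hψ', Pi.lift_π]
  -- vanishing of `Hom(Z_Y, -[m])`, `m ≠ 0`
  have hK : ∀ Y ∈ B, ∀ (n : ℕ) (m : ℤ), m ≠ 0 → Subsingleton (HDUO O (K n) m Y) :=
    fun Y hY n m hm => subsingleton_HDUO_single O (F n) Y (h1 Y hY n) m hm
  have hL : ∀ Y ∈ B, ∀ (m : ℤ), m ≠ 0 → Subsingleton (HDUO O L0 m Y) :=
    fun Y hY m hm => subsingleton_HDUO_single O (Lm O F t) Y (h3 Y hY) m hm
  have hsurjK : ∀ Y ∈ B, ∀ j : ℤ, Function.Surjective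
      (fun (w : ∀ n, ZO O Y ⟶ (K n)⟦j⟧) (n : ℕ) => w n - w (n + 1) ≫ (tt n)⟦j⟧') := by
    intro Y hY j
    by_cases hj : j = 0
    · subst hj
      exact RlimTruncB.limOne_of_eventually_surj 1 (fun n => HDUO O (K n) 0 Y)
        (fun n => Preadditive.rightComp _ ((tt n)⟦(0 : ℤ)⟧'))
        (fun n hn => tn_surjective O Y n (h2 Y hY n hn))
    · haveI : ∀ n, Subsingleton (ZO O Y ⟶ (K n)⟦j⟧) := fun n => hK Y hY n j hj
      exact Function.surjective_to_subsingleton _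
  have hRv : ∀ Y ∈ B, ∀ (m : ℤ), m ≠ 0 → Subsingleton (HDUO O R m Y) := by
    intro Y hY m hm
    suffices h : ∀ z : HDUO O R m Y, z = 0 by
      constructor
      intro x y
      rw [h x, h y]
    intro z
    exact RlimMilnor.eq_zero_of_limOne hR (ZO O Y) m (hsurjK Y hY (m - 1)) z
      (fun n => @Subsingleton.elim _ (hK Y hY n m hm) _ _)
  -- bijectivity in degree `0`
  have hb_eq : ∀ (Y : C) (n : ℕ) (x₀ : ModSite.freeOn O Y ⟶ Lm O F t),
      Φ O Y _ x₀ ≫ (b n)⟦(0 : ℤ)⟧' = Φ O Y (F n) (x₀ ≫ limit.π (Functor.ofOpSequence t) (op n)) :=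
    fun Y n x₀ => (Φ_comp O Y x₀ (limit.π (Functor.ofOpSequence t) (op n))).symm
  have hinj0 : ∀ Y ∈ B, Function.Injective (fun x : HDUO O L0 0 Y => x ≫ ψ⟦(0 : ℤ)⟧') := by
    intro Y hY
    have key : ∀ x : HDUO O L0 0 Y, x ≫ ψ⟦(0 : ℤ)⟧' = 0 → x = 0 := by
      intro x hx
      obtain ⟨x₀, rfl⟩ := Φ_surjective O Y (Lm O F t) x
      have h4 : ∀ n, x₀ ≫ limit.π (Functor.ofOpSequence t) (op n) = 0 := by
        intro n
        apply Φ_injective O Y (F n)
        refine (hb_eq Y n x₀).symm.trans (Eq.trans ?_ (Φ_zero O Y (F n)).symm)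
        rw [← hψa n, Functor.map_comp, ← Category.assoc, hx, zero_comp]
      have h5 : x₀ = 0 := by
        apply limit.hom_ext
        intro j
        rw [zero_comp]
        exact h4 j.unop
      rw [h5, Φ_zero]
    intro x y hxy
    have h6 : (x - y) ≫ ψ⟦(0 : ℤ)⟧' = 0 := by
      rw [Preadditive.sub_comp]
      exact sub_eq_zero.2 hxy
    exact sub_eq_zero.1 (key _ h6)
  have hsurj0 : ∀ Y ∈ B, Function.Surjective (fun x : HDUO O L0 0 Y => x ≫ ψ⟦(0 : ℤ)⟧') := by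
    intro Y hY y
    have h4 : ∀ n, ∃ x₀ : ModSite.freeOn O Y ⟶ F n, Φ O Y (F n) x₀ = y ≫ (a n)⟦(0 : ℤ)⟧' :=
      fun n => Φ_surjective O Y (F n) _
    choose x hx using h4
    have hcompat : ∀ n, x (n + 1) ≫ t n = x n := by
      intro n
      apply Φ_injective O Y (F n)
      rw [Φ_comp, hx, hx, Category.assoc]
      change y ≫ (a (n + 1))⟦(0 : ℤ)⟧' ≫ (tt n)⟦(0 : ℤ)⟧' = _
      rw [← Functor.map_comp, RlimInjA.a_comp_t hR n]
    let cone : Cone (Functor.ofOpSequence t) :=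
      { pt := ModSite.freeOn O Y
        π := NatTrans.ofOpSequence (F := (Functor.const ℕᵒᵖ).obj (ModSite.freeOn O Y))
          (G := Functor.ofOpSequence t) (fun n => x n) (by
            intro n
            have e : (Functor.ofOpSequence t).map (homOfLE (n.le_add_right 1)).op = t n :=
              Functor.ofOpSequence_map_homOfLE_succ t n
            exact (Category.id_comp _).trans
              ((hcompat n).symm.trans (congrArg (fun f => x (n + 1) ≫ f) e.symm))) }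
    let x₀ : ModSite.freeOn O Y ⟶ Lm O F t := limit.lift _ cone
    have hx₀ : ∀ n, x₀ ≫ limit.π (Functor.ofOpSequence t) (op n) = x n :=
      fun n => limit.lift_π cone (op n)
    refine ⟨Φ O Y _ x₀, ?_⟩
    have h7 : Φ O Y _ x₀ ≫ ψ⟦(0 : ℤ)⟧' - y = 0 := by
      refine RlimMilnor.eq_zero_of_limOne hR (ZO O Y) 0 (hsurjK Y hY (0 - 1)) _ ?_
      intro n
      have e1 : (Φ O Y _ x₀ ≫ ψ⟦(0 : ℤ)⟧') ≫ (a n)⟦(0 : ℤ)⟧' = Φ O Y (F n) (x n) := by
        rw [Category.assoc, ← Functor.map_comp, hψa n]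
        exact (hb_eq Y n x₀).trans (congrArg (Φ O Y (F n)) (hx₀ n))
      rw [Preadditive.sub_comp, e1, hx, sub_self]
    exact sub_eq_zero.1 h7
  -- the cone of `ψ` vanishes
  obtain ⟨Cn, j, δ, hT⟩ := distinguished_cocone_triangle ψ
  have hCn : IsZero Cn := by
    refine isZero_of_subsingleton_HDUO O Cn B hB ?_
    intro m Y hY
    refine subsingleton_hom_obj₃ (Triangle.mk ψ j δ) hT (ZO O Y) m (m + 1) rfl ?_ ?_
    · by_cases hm : m + 1 = 0
      · have key : ∀ i : ℤ, i = 0 →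
            Function.Injective (fun x : ZO O Y ⟶ L0⟦i⟧ => x ≫ ψ⟦i⟧') := by
          rintro i rfl
          exact hinj0 Y hY
        exact key _ hm
      · exact @Function.injective_of_subsingleton _ _ (hL Y hY _ hm) _
    · by_cases hm : m = 0
      · subst hm
        exact hsurj0 Y hY
      · exact @Function.surjective_to_subsingleton _ _ ⟨0⟩ (hRv Y hY _ hm) _
  have hiso : IsIso ψ := (Triangle.isZero₃_iff_isIso₁ _ hT).1 hCn
  refine ⟨c ≫ (inv ψ)⟦(1 : ℤ)⟧', ?_⟩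
  refine isomorphic_distinguished _ hc _ ?_
  refine Triangle.isoMk _ _ (@asIso _ _ _ _ ψ hiso) (Iso.refl _) (Iso.refl _) ?_ ?_ ?_
  · exact (Category.comp_id _).trans hψ'
  · exact (Category.comp_id _).trans (Category.id_comp _).symm
  · change (c ≫ (inv ψ)⟦(1 : ℤ)⟧') ≫ ψ⟦(1 : ℤ)⟧' = 𝟙 _ ≫ c
    rw [Category.assoc, ← Functor.map_comp, IsIso.inv_hom_id, CategoryTheory.Functor.map_id,
      Category.id_comp]
    exact Category.comp_id c

end main

end Groth.Agent.H16.RlimModW
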