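import Groth.Agent.H16.RlimModW.CoreO

/-!
# Vanishing of an object of `D(O)` from vanishing of `Hom(j_{Y!}O_Y, -[m])` on a covering class (helper16)
-/

set_option autoImplicit false
universe w u
open CategoryTheory CategoryTheory.Limits Opposite CochainComplex HomComplex DerivedCategory ZeroObject

namespace Groth.Agent.H16.RlimModW

open Groth.Agent.H16
open Groth.Agent.H45.RlimMod (local_injective)

variable {C : Type u} [SmallCategory C] {J : GrothendieckTopology C} (O : Sheaf J CommRingCat.{u})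
  [HasDerivedCategory.{w} (ModSite.Mod O)]

lemma subsingleton_HDUO_of_iso {L L' : DerivedCategory (ModSite.Mod O)} (e : L ≅ L') (m : ℤ) (Y : C)
    (h : Subsingleton (HDUO O L m Y)) : Subsingleton (HDUO O L' m Y) := by
  constructor
  intro x y
  have h1 : x ≫ (e.inv)⟦m⟧' = y ≫ (e.inv)⟦m⟧' := @Subsingleton.elim _ h _ _
  have h2 : ∀ z : HDUO O L' m Y, z = (z ≫ (e.inv)⟦m⟧') ≫ (e.hom)⟦m⟧' := by
    intro z
    rw [Category.assoc, ← Functor.map_comp, Iso.inv_hom_id, CategoryTheory.Functor.map_id]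
    exact (Category.comp_id z).symm
  rw [h2 x, h2 y, h1]

/-- every section of `H^m(L)` vanishes when `Hom(j_{Y!}O_Y, L[m]) = 0` on a covering class. -/
theorem section_eq_zero (L : DerivedCategory (ModSite.Mod O)) (m : ℤ) (B : Set C)
    (hB : ∀ U : C, ∃ (ι : Type u) (Y : ι → C) (f : ∀ i, Y i ⟶ U),
      Sieve.ofArrows Y f ∈ J U ∧ ∀ i, Y i ∈ B)
    (h : ∀ Y ∈ B, Subsingleton (HDUO O L m Y)) (V : C) (s : (HDO O L m).obj.obj (op V)) : s = 0 := by
  have : IsGrothendieckAbelian.{u} (ModSite.Mod O) :=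
    Groth.Agent.H33.SheafMod.isGrothendieckAbelian J (ModSite.ringSh O)
  obtain ⟨IL, fL, hIL, hfL, -, -⟩ := H33.KInj.exists_kInjective_resolution (Q.objPreimage L)
  have : IsIso (Q.map fL) :=
    (DerivedCategory.isIso_Q_map_iff_quasiIso (C := ModSite.Mod O) fL).2 hfL
  let eL : L ≅ Q.obj IL := (Q.objObjPreimageIso L).symm ≪≫ asIso (Q.map fL)
  let H := DerivedCategory.homologyFunctor (ModSite.Mod O) m
  let βL : H.obj L ≅ (IL.sc m).homology :=
    H.mapIso eL ≪≫ (DerivedCategory.homologyFunctorFactors (ModSite.Mod O) m).app IL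
  let S := (IL.sc m).map (toSh O)
  let αL : HDO O L m ≅ S.homology :=
    (toSh O).mapIso βL ≪≫ ((IL.sc m).mapHomologyIso (toSh O)).symm
  let s' : S.homology.obj.obj (op V) := (αL.hom.hom.app (op V)).hom s
  have hs' : ((ShortComplex.homologyMap (0 : S ⟶ S)).hom.app (op V)).hom s' = 0 := by
    rw [ShortComplex.homologyMap_zero]
    rfl
  obtain ⟨T, hT, hT'⟩ := local_injective (0 : S ⟶ S) (fun Y => Y ∈ B) (by
    intro Y hY x hx _
    have hsub : Subsingleton (HDUO O (Q.obj IL) m Y) := subsingleton_HDUO_of_iso O eL m Y (h Y hY)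
    have h3 : clsO IL m Y _ (next_eq m) x hx = 0 := @Subsingleton.elim _ hsub _ _
    exact (clsO_eq_zero_iff IL m Y _ (next_eq m) x hx _ (prev_eq m)).1 h3) V s' hs'
  have hs0 : s' = 0 := by
    refine RlimInjB.eq_zero_of_cover J _ V s' T hT ?_
    intro W g hg
    obtain ⟨ι, Y, f, hcov, hYB⟩ := hB W
    refine RlimInjB.eq_zero_of_cover J _ W _ (Sieve.ofArrows Y f) hcov ?_
    intro W' g' hg'
    obtain ⟨i, u, rfl⟩ := (Sieve.mem_ofArrows_iff Y f g').1 hg'
    have h1 : (S.homology.obj.map (f i ≫ g).op).hom s' = 0 :=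
      hT' (f i ≫ g) (T.downward_closed hg _) (hYB i)
    have h2 : (S.homology.obj.map (u ≫ f i).op).hom ((S.homology.obj.map g.op).hom s') =
        (S.homology.obj.map u.op).hom ((S.homology.obj.map (f i ≫ g).op).hom s') := by
      rw [op_comp, op_comp, Functor.map_comp, Functor.map_comp]
      rfl
    refine h2.trans ?_
    rw [h1, map_zero]
  apply (RlimInjB.bijective_of_isIso J αL.hom V).1
  rw [map_zero]
  exact hs0

/-- the homology sheaf vanishes. -/
theorem isZero_homology (L : DerivedCategory (ModSite.Mod O)) (m : ℤ) (B : Set C)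
    (hB : ∀ U : C, ∃ (ι : Type u) (Y : ι → C) (f : ∀ i, Y i ⟶ U),
      Sieve.ofArrows Y f ∈ J U ∧ ∀ i, Y i ∈ B)
    (h : ∀ Y ∈ B, Subsingleton (HDUO O L m Y)) :
    IsZero ((DerivedCategory.homologyFunctor (ModSite.Mod O) m).obj L) := by
  rw [IsZero.iff_id_eq_zero]
  apply (toSh O).map_injective
  rw [CategoryTheory.Functor.map_id, Functor.map_zero]
  apply Sheaf.hom_ext
  ext V s
  have h1 := section_eq_zero O L m B hB h V.unop s
  change s = _
  rw [h1]
  exact (map_zero _).symm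

/-- an object of `D(O)` with `Hom(j_{Y!}O_Y, L[m]) = 0` for all `m` and all `Y` in a covering class is zero. -/
theorem isZero_of_subsingleton_HDUO (L : DerivedCategory (ModSite.Mod O)) (B : Set C)
    (hB : ∀ U : C, ∃ (ι : Type u) (Y : ι → C) (f : ∀ i, Y i ⟶ U),
      Sieve.ofArrows Y f ∈ J U ∧ ∀ i, Y i ∈ B)
    (h : ∀ (m : ℤ), ∀ Y ∈ B, Subsingleton (HDUO O L m Y)) : IsZero L := by
  have hiso : IsIso (0 : L ⟶ 0) := by
    rw [DerivedCategory.isIso_iff]
    intro m
    have h1 := isZero_homology O L m B hB (h m)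
    have h2 : IsZero ((DerivedCategory.homologyFunctor (ModSite.Mod O) m).obj
        (0 : DerivedCategory (ModSite.Mod O))) :=
      (DerivedCategory.homologyFunctor (ModSite.Mod O) m).map_isZero (isZero_zero _)
    exact ⟨⟨0, h1.eq_of_src _ _, h2.eq_of_src _ _⟩⟩
  exact IsZero.of_iso (isZero_zero _) (@asIso _ _ _ _ _ hiso)

end Groth.Agent.H16.RlimModW
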